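import Mathlib
import Groth.Prelude.Def_RegImm
import Groth.Prelude.Def_EGA4b
import Groth.Prelude.Def_Pi1
import Groth.Agent.Lib.Helper1.LocalCriterion2
import Groth.Agent.Lib.Helper1.ArtinFlatReg
import Groth.Agent.Lib.Helper1.RegSpread
import Groth.Agent.Lib.Helper1.RegComp
import Groth.Agent.Lib.Helper8.CIPres.B
import Groth.Agent.Lib.Helper8.CILoc.Main

/-! Transversally regular sequences in a flat local algebra with regular closed fibre
(EGA IV 19.3.7-type statement). -/

set_option autoImplicit false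
set_option linter.style.haveILetI false
universe u
open RingTheory.Sequence IsLocalRing Function

namespace Groth.Agent.H8.TransReg

section Step

variable {A C : Type u} [CommRing A] [CommRing C] [Algebra A C]

/-- multiplication by `r` on `C ⧸ I`, as an `A`-linear map -/
noncomputable def mulr (I : Ideal C) (r : C) : (C ⧸ I) →ₗ[A] (C ⧸ I) :=
  (LinearMap.lsmul C (C ⧸ I) r).restrictScalars A

theorem mulr_mk (I : Ideal C) (r c : C) :
    mulr (A := A) I r (Ideal.Quotient.mk I c) = Ideal.Quotient.mk I (r * c) := by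
  change r • Ideal.Quotient.mk I c = _
  rw [Algebra.smul_def, Ideal.Quotient.algebraMap_eq, ← map_mul]

/-- the natural map `C ⧸ I → C ⧸ I ⊔ (r)` -/
noncomputable def proj (I : Ideal C) (r : C) : (C ⧸ I) →ₗ[A] (C ⧸ (I ⊔ Ideal.span {r})) :=
  (Ideal.Quotient.liftₐ I (Ideal.Quotient.mkₐ A (I ⊔ Ideal.span {r}))
    (fun a ha => by
      rw [Ideal.Quotient.mkₐ_eq_mk, Ideal.Quotient.eq_zero_iff_mem]
      exact Ideal.mem_sup_left ha)).toLinearMap

theorem proj_mk (I : Ideal C) (r c : C) :
    proj (A := A) I r (Ideal.Quotient.mk I c) = Ideal.Quotient.mk (I ⊔ Ideal.span {r}) c := rfl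

theorem proj_surjective (I : Ideal C) (r : C) : Surjective (proj (A := A) I r) := by
  intro y
  obtain ⟨c, rfl⟩ := Ideal.Quotient.mk_surjective y
  exact ⟨Ideal.Quotient.mk I c, proj_mk I r c⟩

theorem exact_mulr_proj (I : Ideal C) (r : C) :
    Function.Exact (mulr (A := A) I r) (proj (A := A) I r) := by
  rw [LinearMap.exact_iff]
  ext x
  obtain ⟨c, rfl⟩ := Ideal.Quotient.mk_surjective x
  rw [LinearMap.mem_ker, proj_mk, Ideal.Quotient.eq_zero_iff_mem, LinearMap.mem_range]
  constructor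
  · intro h
    obtain ⟨a, ha, b, hb, rfl⟩ := Submodule.mem_sup.mp h
    obtain ⟨d, rfl⟩ := Ideal.mem_span_singleton'.mp hb
    refine ⟨Ideal.Quotient.mk I d, ?_⟩
    rw [mulr_mk, Ideal.Quotient.eq]
    have e : r * d - (a + d * r) = -a := by ring
    rw [e]
    exact neg_mem ha
  · rintro ⟨y, hy⟩
    obtain ⟨d, rfl⟩ := Ideal.Quotient.mk_surjective y
    rw [mulr_mk, Ideal.Quotient.eq] at hy
    have e : c = r * d - (r * d - c) := by ring
    rw [e]
    exact sub_mem (Ideal.mem_sup_right (Ideal.mem_span_singleton'.mpr ⟨d, mul_comm d r⟩))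
      (Ideal.mem_sup_left hy)

theorem mulr_injective_iff (I : Ideal C) (r : C) :
    Injective (mulr (A := A) I r) ↔ ∀ c, r * c ∈ I → c ∈ I := by
  rw [injective_iff_map_eq_zero]
  constructor
  · intro h c hc
    have h1 := h (Ideal.Quotient.mk I c) (by rw [mulr_mk, Ideal.Quotient.eq_zero_iff_mem]; exact hc)
    rwa [Ideal.Quotient.eq_zero_iff_mem] at h1
  · intro h x hx
    obtain ⟨c, rfl⟩ := Ideal.Quotient.mk_surjective x
    rw [mulr_mk, Ideal.Quotient.eq_zero_iff_mem] at hx
    rw [Ideal.Quotient.eq_zero_iff_mem]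
    exact h c hx

theorem mk_mem_smul_top_iff (𝔞 : Ideal A) (I : Ideal C) (c : C) :
    Ideal.Quotient.mk I c ∈ 𝔞 • (⊤ : Submodule A (C ⧸ I)) ↔ c ∈ 𝔞.map (algebraMap A C) ⊔ I := by
  rw [Ideal.smul_top_eq_map, Submodule.restrictScalars_mem, IsScalarTower.algebraMap_eq A C (C ⧸ I),
    ← Ideal.map_map, Ideal.Quotient.algebraMap_eq, Ideal.mem_quotient_iff_mem_sup]

theorem mem_smul_top_iff_mem_map {B : Type u} [CommRing B] [Algebra A B] (𝔞 : Ideal A) (b : B) :
    b ∈ 𝔞 • (⊤ : Submodule A B) ↔ b ∈ 𝔞.map (algebraMap A B) := by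
  rw [Ideal.smul_top_eq_map, Submodule.restrictScalars_mem]

theorem mulr_lTensor_injective_iff (𝔞 : Ideal A) (I : Ideal C) (r : C) :
    Injective ((mulr (A := A) I r).lTensor (A ⧸ 𝔞)) ↔
      ∀ c, r * c ∈ 𝔞.map (algebraMap A C) ⊔ I → c ∈ 𝔞.map (algebraMap A C) ⊔ I := by
  rw [Groth.Agent.H1.ArtinFlatReg.lTensor_quotient_injective_iff]
  constructor
  · intro h c hc
    rw [← mk_mem_smul_top_iff] at hc ⊢
    apply h
    rw [mulr_mk]
    exact hc
  · intro h x hx
    obtain ⟨c, rfl⟩ := Ideal.Quotient.mk_surjective x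
    rw [mulr_mk] at hx
    rw [mk_mem_smul_top_iff] at hx ⊢
    exact h c hx

theorem step_up (𝔞 : Ideal A) (I : Ideal C) (r : C) (hinj : ∀ c, r * c ∈ I → c ∈ I)
    [Module.Flat A (C ⧸ (I ⊔ Ideal.span {r}))] :
    ∀ c, r * c ∈ 𝔞.map (algebraMap A C) ⊔ I → c ∈ 𝔞.map (algebraMap A C) ⊔ I := by
  rw [← mulr_lTensor_injective_iff]
  exact Groth.Agent.H1.lTensor_injective_of_exact_of_flat (mulr (A := A) I r) (proj (A := A) I r)
    ((mulr_injective_iff I r).mpr hinj) (exact_mulr_proj I r) (proj_surjective I r) (A ⧸ 𝔞)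

theorem step_down [IsLocalRing A] [IsLocalRing C] [IsNoetherianRing C]
    [IsLocalHom (algebraMap A C)] (I : Ideal C) (r : C) [Module.Flat A (C ⧸ I)]
    (h : ∀ c, r * c ∈ (maximalIdeal A).map (algebraMap A C) ⊔ I →
      c ∈ (maximalIdeal A).map (algebraMap A C) ⊔ I) :
    (∀ c, r * c ∈ I → c ∈ I) ∧ Module.Flat A (C ⧸ (I ⊔ Ideal.span {r})) := by
  have h1 := Groth.Agent.H1.injective_and_flat_quotient_of_lTensor_residue_injective C
    (mulr (A := A) I r) ((mulr_lTensor_injective_iff (maximalIdeal A) I r).mpr h)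
  refine ⟨(mulr_injective_iff I r).mp h1.1, ?_⟩
  haveI := h1.2
  have hker : LinearMap.ker (proj (A := A) I r) = LinearMap.range (mulr (A := A) I r) :=
    LinearMap.exact_iff.mp (exact_mulr_proj I r)
  let e : ((C ⧸ I) ⧸ LinearMap.range (mulr (A := A) I r)) ≃ₗ[A] (C ⧸ (I ⊔ Ideal.span {r})) :=
    (Submodule.quotEquivOfEq _ _ hker.symm).trans
      ((proj (A := A) I r).quotKerEquivOfSurjective (proj_surjective I r))
  exact Module.Flat.of_linearEquiv e.symm

end Step

section Lists

variable {C : Type u} [CommRing C]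

theorem ofList_take_succ (rs : List C) (i : ℕ) (h : i < rs.length) :
    Ideal.ofList (rs.take (i + 1)) = Ideal.ofList (rs.take i) ⊔ Ideal.span {rs[i]} := by
  rw [List.take_succ_eq_append_getElem h, Ideal.ofList_append, Ideal.ofList_singleton]

theorem isWeaklyRegular_map_mk_iff (K : Ideal C) (rs : List C) :
    IsWeaklyRegular (C ⧸ K) (rs.map (Ideal.Quotient.mk K)) ↔
      ∀ i (h : i < rs.length), ∀ y, rs[i] * y ∈ K ⊔ Ideal.ofList (rs.take i) →
        y ∈ K ⊔ Ideal.ofList (rs.take i) := by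
  rw [Groth.Agent.H1.Spread.isWeaklyRegular_iff_forall_mem]
  constructor
  · intro H i h y hy
    have hi : i < (rs.map (Ideal.Quotient.mk K)).length := by rw [List.length_map]; exact h
    have h1 := H i hi (Ideal.Quotient.mk K y)
    rw [List.getElem_map, ← List.map_take, ← Ideal.map_ofList, ← map_mul,
      Ideal.mem_quotient_iff_mem_sup, Ideal.mem_quotient_iff_mem_sup] at h1
    rw [sup_comm] at hy ⊢
    exact h1 hy
  · intro H i hi ybar hy
    obtain ⟨y, rfl⟩ := Ideal.Quotient.mk_surjective ybar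
    have h : i < rs.length := by rw [List.length_map] at hi; exact hi
    rw [List.getElem_map, ← List.map_take, ← Ideal.map_ofList, ← map_mul,
      Ideal.mem_quotient_iff_mem_sup] at hy
    rw [← List.map_take, ← Ideal.map_ofList, Ideal.mem_quotient_iff_mem_sup]
    have h2 := H i h y (by rw [sup_comm]; exact hy)
    rw [sup_comm] at h2
    exact h2

theorem exists_lift_list (J K : Ideal C) (l : List (C ⧸ K))
    (h : ∀ x ∈ l, x ∈ J.map (Ideal.Quotient.mk K)) :
    ∃ rs : List C, rs.map (Ideal.Quotient.mk K) = l ∧ ∀ r ∈ rs, r ∈ J := by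
  induction l with
  | nil => exact ⟨[], rfl, fun _ h => absurd h List.not_mem_nil⟩
  | cons x l ih =>
    obtain ⟨rs, hrs, hJ⟩ := ih (fun y hy => h y (List.mem_cons_of_mem _ hy))
    obtain ⟨r, hr, hrx⟩ := (Ideal.mem_map_iff_of_surjective _ Ideal.Quotient.mk_surjective).mp
      (h x List.mem_cons_self)
    refine ⟨r :: rs, by rw [List.map_cons, hrx, hrs], ?_⟩
    intro y hy
    rcases List.mem_cons.mp hy with rfl | hy
    · exact hr
    · exact hJ y hy

end Lists

section Main

variable {A C : Type u} [CommRing A] [CommRing C] [Algebra A C]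

theorem fibre_of_transReg [IsLocalRing A] (rs : List C) (h : RegImm.IsTransRegularSeq A C rs) :
    IsWeaklyRegular (C ⧸ (maximalIdeal A).map (algebraMap A C))
      (rs.map (Ideal.Quotient.mk ((maximalIdeal A).map (algebraMap A C)))) := by
  rw [isWeaklyRegular_map_mk_iff]
  intro i hi y hy
  obtain ⟨hw, hfl⟩ := h
  haveI : Module.Flat A (C ⧸ (Ideal.ofList (rs.take i) ⊔ Ideal.span {rs[i]})) := by
    rw [← ofList_take_succ rs i hi]
    exact hfl (i + 1) hi
  exact step_up (maximalIdeal A) (Ideal.ofList (rs.take i)) rs[i]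
    ((Groth.Agent.H1.Spread.isWeaklyRegular_iff_forall_mem rs).mp hw i hi) y hy

theorem transReg_of_fibre [IsLocalRing A] [IsLocalRing C] [IsNoetherianRing C]
    [IsLocalHom (algebraMap A C)] [Module.Flat A C] (rs : List C)
    (h : IsWeaklyRegular (C ⧸ (maximalIdeal A).map (algebraMap A C))
      (rs.map (Ideal.Quotient.mk ((maximalIdeal A).map (algebraMap A C))))) :
    RegImm.IsTransRegularSeq A C rs := by
  rw [isWeaklyRegular_map_mk_iff] at h
  have key : ∀ j, j ≤ rs.length → Module.Flat A (C ⧸ Ideal.ofList (rs.take j)) ∧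
      ∀ i (hi : i < rs.length), i < j → ∀ y, rs[i] * y ∈ Ideal.ofList (rs.take i) →
        y ∈ Ideal.ofList (rs.take i) := by
    intro j
    induction j with
    | zero =>
      intro _
      refine ⟨?_, fun i _ hi => absurd hi (Nat.not_lt_zero i)⟩
      rw [List.take_zero, Ideal.ofList_nil]
      exact Module.Flat.of_linearEquiv
        ((Submodule.quotEquivOfEqBot (⊥ : Ideal C) rfl).restrictScalars A)
    | succ j ih =>
      intro hj
      have hj' : j < rs.length := hj
      obtain ⟨hflat, hreg⟩ := ih (le_of_lt hj')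
      haveI := hflat
      obtain ⟨h1, h2⟩ := step_down (A := A) (Ideal.ofList (rs.take j)) rs[j] (h j hj')
      refine ⟨?_, ?_⟩
      · rw [ofList_take_succ rs j hj']
        exact h2
      · intro i hi hij y hy
        rcases Nat.lt_succ_iff_lt_or_eq.mp hij with hlt | heq
        · exact hreg i hi hlt y hy
        · subst heq
          exact h1 y hy
  exact ⟨(Groth.Agent.H1.Spread.isWeaklyRegular_iff_forall_mem rs).mpr
    (fun i hi y hy => (key rs.length le_rfl).2 i hi hi y hy), fun j hj => (key j hj).1⟩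

theorem ker_le_of_fibre [IsLocalRing A] [IsLocalRing C] [IsNoetherianRing C]
    [IsLocalHom (algebraMap A C)]
    {B : Type u} [CommRing B] [Algebra C B] [Algebra A B] [IsScalarTower A C B] [Module.Flat A B]
    (hsurj : Surjective (algebraMap C B))
    (J' : Ideal C) (hJ' : J' ≤ RingHom.ker (algebraMap C B))
    (hsup : RingHom.ker (algebraMap C B) ≤ (maximalIdeal A).map (algebraMap A C) ⊔ J') :
    RingHom.ker (algebraMap C B) ≤ J' := by
  let v : (C ⧸ J') →ₗ[A] B :=
    (Ideal.Quotient.liftₐ J' (IsScalarTower.toAlgHom A C B) (fun a ha => hJ' ha)).toLinearMap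
  have hv : ∀ c, v (Ideal.Quotient.mk J' c) = algebraMap C B c := fun c => rfl
  have hinj : Injective (v.lTensor (A ⧸ maximalIdeal A)) := by
    rw [Groth.Agent.H1.ArtinFlatReg.lTensor_quotient_injective_iff]
    intro x hx
    obtain ⟨c, rfl⟩ := Ideal.Quotient.mk_surjective x
    rw [hv, mem_smul_top_iff_mem_map, IsScalarTower.algebraMap_eq A C B, ← Ideal.map_map] at hx
    rw [mk_mem_smul_top_iff]
    obtain ⟨x, hxK, hxe⟩ := (Ideal.mem_map_iff_of_surjective _ hsurj).mp hx
    have hker : c - x ∈ RingHom.ker (algebraMap C B) := by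
      rw [RingHom.mem_ker, map_sub, hxe, sub_self]
    have e : c = x + (c - x) := by ring
    rw [e]
    exact add_mem (Ideal.mem_sup_left hxK) (hsup hker)
  have h1 := (Groth.Agent.H1.injective_and_flat_quotient_of_lTensor_residue_injective C v hinj).1
  intro c hc
  have h2 : v (Ideal.Quotient.mk J' c) = v 0 := by
    rw [hv, map_zero]
    exact hc
  have h3 := h1 h2
  rwa [Ideal.Quotient.eq_zero_iff_mem] at h3

theorem main (A C B : Type u) [CommRing A] [IsLocalRing A]
    [IsNoetherianRing A] [CommRing C] [IsLocalRing C] [IsNoetherianRing C] [Algebra A C]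
    [IsLocalHom (algebraMap A C)]
    [Module.Flat A C] (hreg : IsRegularLocalRing (EGA4.FibRing A C))
    [CommRing B] [IsLocalRing B] [Algebra C B] [Algebra A B] [IsScalarTower A C B]
    [IsLocalHom (algebraMap A B)]
    (hsurj : Function.Surjective (algebraMap C B)) :
    (∃ rs : List C, Ideal.ofList rs = RingHom.ker (algebraMap C B) ∧
      RegImm.IsTransRegularSeq A C rs) ↔
      (Module.Flat A B ∧ Pi1.IsCompleteIntersection (EGA4.FibRing A B)) := by
  haveI := hreg
  haveI : IsNoetherianRing B := isNoetherianRing_of_surjective C B (algebraMap C B) hsurj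
  have hJtop : RingHom.ker (algebraMap C B) ≠ ⊤ := RingHom.ker_ne_top _
  have hJmax : RingHom.ker (algebraMap C B) ≤ maximalIdeal C := IsLocalRing.le_maximalIdeal hJtop
  have hKmax : EGA4.mB A C ≤ maximalIdeal C := IsLocalRing.map_maximalIdeal_le (algebraMap A C)
  have hJbar : (RingHom.ker (algebraMap C B)).map (Ideal.Quotient.mk (EGA4.mB A C)) ≠ ⊤ := by
    intro h
    have h1 : Ideal.Quotient.mk (EGA4.mB A C) 1 ∈
        (RingHom.ker (algebraMap C B)).map (Ideal.Quotient.mk (EGA4.mB A C)) := by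
      rw [h]; trivial
    rw [Ideal.mem_quotient_iff_mem_sup] at h1
    exact (Ideal.ne_top_iff_one _).mp (IsLocalRing.maximalIdeal.isMaximal C).ne_top
      (sup_le hJmax hKmax h1)
  haveI : Nontrivial (EGA4.FibRing A C ⧸
      (RingHom.ker (algebraMap C B)).map (Ideal.Quotient.mk (EGA4.mB A C))) :=
    Ideal.Quotient.nontrivial_iff.mpr hJbar
  -- the ring isomorphism `C̄ ⧸ J̄ ≃ B̄`
  let ψ : C →+* EGA4.FibRing A B := (Ideal.Quotient.mk (EGA4.mB A B)).comp (algebraMap C B)
  have hψ : Surjective ψ := Ideal.Quotient.mk_surjective.comp hsurj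
  have hker : RingHom.ker ψ = EGA4.mB A C ⊔ RingHom.ker (algebraMap C B) := by
    change RingHom.ker ((Ideal.Quotient.mk (EGA4.mB A B)).comp (algebraMap C B)) = _
    rw [← RingHom.comap_ker, Ideal.mk_ker]
    have h1 : EGA4.mB A B = (EGA4.mB A C).map (algebraMap C B) := by
      change (maximalIdeal A).map (algebraMap A B) = ((maximalIdeal A).map (algebraMap A C)).map _
      rw [Ideal.map_map, ← IsScalarTower.algebraMap_eq]
    rw [h1, Ideal.comap_map_of_surjective _ hsurj]
    rfl
  let e : (EGA4.FibRing A C ⧸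
      (RingHom.ker (algebraMap C B)).map (Ideal.Quotient.mk (EGA4.mB A C))) ≃+* EGA4.FibRing A B :=
    (DoubleQuot.quotQuotEquivQuotSup (EGA4.mB A C) (RingHom.ker (algebraMap C B))).trans
      ((Ideal.quotEquivOfEq hker.symm).trans (RingHom.quotientKerEquivOfSurjective hψ))
  constructor
  · rintro ⟨rs, hrs, htr⟩
    refine ⟨?_, ?_⟩
    · have h1 : Module.Flat A (C ⧸ Ideal.ofList (rs.take rs.length)) := htr.2 rs.length le_rfl
      rw [List.take_length, hrs] at h1
      have hkereq : RingHom.ker (IsScalarTower.toAlgHom A C B) = RingHom.ker (algebraMap C B) := rfl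
      let eB : (C ⧸ RingHom.ker (algebraMap C B)) ≃ₐ[A] B :=
        (Ideal.quotientEquivAlgOfEq A hkereq.symm).trans
          (Ideal.quotientKerAlgEquivOfSurjective (f := IsScalarTower.toAlgHom A C B) hsurj)
      exact Module.Flat.of_linearEquiv eB.symm.toLinearEquiv
    · have hw := fibre_of_transReg rs htr
      have hof : Ideal.ofList (rs.map (Ideal.Quotient.mk (EGA4.mB A C))) =
          (RingHom.ker (algebraMap C B)).map (Ideal.Quotient.mk (EGA4.mB A C)) := by
        rw [← Ideal.map_ofList, hrs]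
      have hregseq : IsRegular (EGA4.FibRing A C) (rs.map (Ideal.Quotient.mk (EGA4.mB A C))) :=
        (Groth.Agent.H1.RegComp.isRegular_iff_ne_top _).mpr ⟨hw, hof ▸ hJbar⟩
      have hci := (Groth.Agent.H8.CIPres.main2166 _ hJbar).mpr ⟨_, hof, hregseq⟩
      exact Groth.Agent.H8.CILoc.ci_of_ringEquiv e hci
  · rintro ⟨hflat, hci⟩
    haveI := hflat
    have hci' := Groth.Agent.H8.CILoc.ci_of_ringEquiv e.symm hci
    obtain ⟨rbs, hrbs, hregseq⟩ := (Groth.Agent.H8.CIPres.main2166 _ hJbar).mp hci'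
    obtain ⟨rs, hmap, hrsJ⟩ := exists_lift_list (RingHom.ker (algebraMap C B)) (EGA4.mB A C) rbs
      (fun x hx => by rw [← hrbs]; exact Ideal.subset_span hx)
    have htr : RegImm.IsTransRegularSeq A C rs :=
      transReg_of_fibre rs (by rw [hmap]; exact hregseq.toIsWeaklyRegular)
    have hJ'le : Ideal.ofList rs ≤ RingHom.ker (algebraMap C B) := by
      rw [Ideal.ofList, Ideal.span_le]
      exact fun r hr => hrsJ r hr
    have hsup : RingHom.ker (algebraMap C B) ≤ EGA4.mB A C ⊔ Ideal.ofList rs := by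
      intro c hc
      have h1 : Ideal.Quotient.mk (EGA4.mB A C) c ∈
          (Ideal.ofList rs).map (Ideal.Quotient.mk (EGA4.mB A C)) := by
        rw [Ideal.map_ofList, hmap, hrbs]
        exact Ideal.mem_map_of_mem _ hc
      rw [Ideal.mem_quotient_iff_mem_sup] at h1
      rw [sup_comm]
      exact h1
    exact ⟨rs, le_antisymm hJ'le (ker_le_of_fibre hsurj _ hJ'le hsup), htr⟩

end Main

end Groth.Agent.H8.TransReg
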